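import Groth.Agent.W4c3perfectstacks.K885.MV

/-! The Mayer–Vietoris triangle: naturality and existence. -/

set_option autoImplicit false
set_option linter.unusedSectionVars false
universe v u

open CategoryTheory CategoryTheory.Limits CategoryTheory.Pretriangulated
open W4c3perfectstacks W4c3perfectstacks.MVSq

namespace K885.MV

variable {S S' R R' : Type u} [Category.{v} S] [Category.{v} S'] [Category.{v} R] [Category.{v} R']
    [Preadditive S] [Preadditive S'] [Preadditive R] [Preadditive R']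
    [HasZeroObject S] [HasZeroObject S'] [HasZeroObject R] [HasZeroObject R']
    [HasShift S ℤ] [HasShift S' ℤ] [HasShift R ℤ] [HasShift R' ℤ]
    [∀ n : ℤ, (shiftFunctor S n).Additive] [∀ n : ℤ, (shiftFunctor S' n).Additive]
    [∀ n : ℤ, (shiftFunctor R n).Additive] [∀ n : ℤ, (shiftFunctor R' n).Additive]
    [Pretriangulated S] [Pretriangulated S'] [Pretriangulated R] [Pretriangulated R']

section tri

variable {X Y Z : S} {f : X ⟶ Y} {g : Y ⟶ Z} {h : Z ⟶ X⟦(1 : ℤ)⟧}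

theorem yo₂s (hT : Triangle.mk f g h ∈ distTriang S) {W : S} (x : Y⟦(1 : ℤ)⟧ ⟶ W)
    (hx : (shiftFunctor S (1 : ℤ)).map f ≫ x = 0) :
    ∃ y : Z⟦(1 : ℤ)⟧ ⟶ W, x = (shiftFunctor S (1 : ℤ)).map g ≫ y := by
  obtain ⟨(y : Z⟦(1 : ℤ)⟧ ⟶ W), hy⟩ := Triangle.yoneda_exact₃ _ (rot_of_distTriang _ (rot_of_distTriang _ hT)) x (by
    change (-(shiftFunctor S (1 : ℤ)).map f) ≫ x = 0
    rw [Preadditive.neg_comp, hx, neg_zero])
  have hy' : x = (-(shiftFunctor S (1 : ℤ)).map g) ≫ y := hy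
  refine ⟨-y, ?_⟩
  rw [hy', Preadditive.neg_comp, Preadditive.comp_neg]

theorem compl₁ {X' Y' Z' : S} {f' : X' ⟶ Y'} {g' : Y' ⟶ Z'} {h' : Z' ⟶ X'⟦(1 : ℤ)⟧}
    (hT : Triangle.mk f g h ∈ distTriang S) (hT' : Triangle.mk f' g' h' ∈ distTriang S)
    (b : Y ⟶ Y') (c : Z ⟶ Z') (comm : g ≫ c = b ≫ g') :
    ∃ a : X ⟶ X', f ≫ b = a ≫ f' ∧ h ≫ (shiftFunctor S (1 : ℤ)).map a = c ≫ h' :=
  complete_distinguished_triangle_morphism₁ _ _ hT hT' b c comm

theorem exists_unshift {Z P : S} (w : Z ⟶ P⟦(1 : ℤ)⟧) : ∃ (w' : Z⟦(-1 : ℤ)⟧ ⟶ P),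
    w = (shiftNegShift Z (1 : ℤ)).inv ≫ (shiftFunctor S (1 : ℤ)).map w' := by
  obtain ⟨w', hw'⟩ := (shiftFunctor S (1 : ℤ)).map_surjective ((shiftNegShift Z (1 : ℤ)).hom ≫ w)
  refine ⟨w', ?_⟩
  rw [hw', Iso.inv_hom_id_assoc]

theorem iso₃ {Z' : S} (hT : Triangle.mk f g h ∈ distTriang S) (θ : Z ⟶ Z') [IsIso θ] {g' : Y ⟶ Z'}
    (hg : g' = g ≫ θ) : Triangle.mk f g' (inv θ ≫ h) ∈ distTriang S := by
  subst hg
  refine isomorphic_distinguished _ hT _ (Triangle.isoMk _ _ (Iso.refl _) (Iso.refl _) (asIso θ).symm ?_ ?_ ?_)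
  · change f ≫ 𝟙 Y = 𝟙 X ≫ f
    simp
  · change (g ≫ θ) ≫ inv θ = 𝟙 Y ≫ g
    simp
  · change (inv θ ≫ h) ≫ (shiftFunctor S (1 : ℤ)).map (𝟙 X) = inv θ ≫ h
    simp

/-- In a distinguished triangle whose middle term splits as `A ⊕ B`, if the first map is invertible
onto `A` then `B` maps isomorphically to the third term. -/
theorem isIso_compl₂ (hT : Triangle.mk f g h ∈ distTriang S) {A B : S} (s : A ⟶ Y) (r : Y ⟶ A)
    (i : B ⟶ Y) (p : Y ⟶ B) (hip : i ≫ p = 𝟙 B) (hir : i ≫ r = 0) (hsum : r ≫ s + p ≫ i = 𝟙 Y)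
    (hf : IsIso (f ≫ r)) : IsIso (i ≫ g) := by
  have h0 : h = 0 := by
    have h1 := tri_comp₃₁ hT
    have h2 : f ≫ r ≫ inv (f ≫ r) = 𝟙 X := by rw [← Category.assoc, IsIso.hom_inv_id]
    have h3 : h ≫ (shiftFunctor S (1 : ℤ)).map (f ≫ r ≫ inv (f ≫ r)) = h := by
      rw [h2, CategoryTheory.Functor.map_id, Category.comp_id]
    rw [← h3, Functor.map_comp, reassoc_of% h1, zero_comp]
  have hg : Epi g := Triangle.epi₂ _ hT h0
  obtain ⟨t, ht⟩ := yo₂ hT (p - r ≫ inv (f ≫ r) ≫ f ≫ p) (by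
    rw [Preadditive.comp_sub, ← Category.assoc f r, ← Category.assoc (f ≫ r), IsIso.hom_inv_id,
      Category.id_comp, sub_self])
  have hpi : p ≫ i = 𝟙 Y - r ≫ s := by rw [← hsum]; abel
  have hfg := tri_comp₁₂ hT
  refine ⟨t, ?_, ?_⟩
  · rw [Category.assoc, ← ht, Preadditive.comp_sub, hip, reassoc_of% hir, zero_comp, sub_zero]
  · rw [← cancel_epi g, ← Category.assoc, ← ht, Category.comp_id]
    have h5 : f ≫ p ≫ i ≫ g = -((f ≫ r) ≫ s ≫ g) := by
      rw [← Category.assoc p, hpi, Preadditive.sub_comp, Category.id_comp, Preadditive.comp_sub, hfg,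
        zero_sub, Category.assoc, Category.assoc]
    simp only [Preadditive.sub_comp, Category.assoc]
    rw [h5, Preadditive.comp_neg, IsIso.inv_hom_id_assoc, Preadditive.comp_neg, sub_neg_eq_add,
      ← Category.assoc p, hpi, Preadditive.sub_comp, Category.id_comp, Category.assoc, sub_add_cancel]

/-- In a distinguished triangle whose middle term splits as `A ⊕ B`, if `B` maps isomorphically onto
the third term then the first term maps isomorphically onto `A`. -/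
theorem isIso_compl₁ (hT : Triangle.mk f g h ∈ distTriang S) {A B : S} (s : A ⟶ Y) (r : Y ⟶ A)
    (i : B ⟶ Y) (p : Y ⟶ B) (hsr : s ≫ r = 𝟙 A) (hir : i ≫ r = 0) (hsum : r ≫ s + p ≫ i = 𝟙 Y)
    (hg : IsIso (i ≫ g)) : IsIso (f ≫ r) := by
  have h0 : h = 0 := by
    have h1 := tri_comp₂₃ hT
    have h2 : inv (i ≫ g) ≫ i ≫ g = 𝟙 Z := IsIso.inv_hom_id _
    have h3 : (inv (i ≫ g) ≫ i ≫ g) ≫ h = h := by rw [h2, Category.id_comp]
    rw [← h3, Category.assoc, Category.assoc, h1, comp_zero, comp_zero]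
  have hf : Mono f := Triangle.mono₁ _ hT h0
  obtain ⟨t, ht⟩ := coy₂ hT (s - s ≫ g ≫ inv (i ≫ g) ≫ i) (by
    rw [Preadditive.sub_comp, Category.assoc, Category.assoc, Category.assoc, IsIso.inv_hom_id,
      Category.comp_id, sub_self])
  have hrs : r ≫ s = 𝟙 Y - p ≫ i := by rw [← hsum]; abel
  have hfg := tri_comp₁₂ hT
  refine ⟨t, ?_, ?_⟩
  · rw [← cancel_mono f, Category.assoc, ← ht, Category.id_comp]
    simp only [Preadditive.comp_sub, Category.assoc]
    rw [← Category.assoc r s, hrs]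
    simp only [Preadditive.comp_sub, Preadditive.sub_comp, Category.assoc, Category.comp_id,
      Category.id_comp]
    rw [reassoc_of% hfg, zero_comp, ← Category.assoc i g, IsIso.hom_inv_id_assoc]
    abel
  · rw [← Category.assoc, ← ht, Preadditive.sub_comp, hsr, Category.assoc, Category.assoc,
      Category.assoc, hir, comp_zero, comp_zero, comp_zero, sub_zero]

theorem isIso_neg {X Y : S} (f : X ⟶ Y) [IsIso f] : IsIso (-f) :=
  ⟨⟨-inv f, by simp, by simp⟩⟩

end tri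

variable (q : W4c3perfectstacks.MVSq S S' R R')
    [q.jst.CommShift ℤ] [q.fst.CommShift ℤ] [q.jpst.CommShift ℤ] [q.gst.CommShift ℤ]
    [q.jst.IsTriangulated] [q.fst.IsTriangulated] [q.jpst.IsTriangulated] [q.gst.IsTriangulated]

/-- the first map of the Mayer-Vietoris triangle -/
noncomputable abbrev mvι (N : S) : N ⟶ q.jls.obj (q.jst.obj N) ⊞ q.fls.obj (q.fst.obj N) :=
  biprod.lift (q.adjJ.unit.app N) (q.adjF.unit.app N)

/-- the second map of the Mayer-Vietoris triangle -/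
noncomputable abbrev mvκ (N : S) : q.jls.obj (q.jst.obj N) ⊞ q.fls.obj (q.fst.obj N) ⟶
    q.fls.obj (q.fst.obj (q.jls.obj (q.jst.obj N))) :=
  biprod.desc (q.adjF.unit.app (q.jls.obj (q.jst.obj N)))
    (-(q.fls.map (q.fst.map (q.adjJ.unit.app N))))

theorem mvι_κ (N : S) : mvι q N ≫ mvκ q N = 0 := by
  have h := q.adjF.unit.naturality (q.adjJ.unit.app N)
  simp only [Functor.id_obj, Functor.id_map, Functor.comp_obj, Functor.comp_map] at h
  rw [biprod.lift_desc, Preadditive.comp_neg, h, add_neg_cancel]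

/-- Any map `N⟦1⟧ ⟶ f_* f^* j_* P` factors through the shifted unit of `j`. -/
theorem factor_shift (hq : q.IsMV) (N : S) (P : R)
    (ψ : N⟦(1 : ℤ)⟧ ⟶ q.fls.obj (q.fst.obj (q.jls.obj P))) :
    ∃ ψ' : (q.jls.obj (q.jst.obj N))⟦(1 : ℤ)⟧ ⟶ q.fls.obj (q.fst.obj (q.jls.obj P)),
      ψ = (shiftFunctor S (1 : ℤ)).map (q.adjJ.unit.app N) ≫ ψ' := by
  obtain ⟨C, c, d, hT, hC⟩ := exists_fibre q hq N
  exact yo₂s hT ψ (hom_eq_zero_Q q hq _ (isZero_map_shift q.jst C hC 1) P _)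

theorem mv_naturality (hq : q.IsMV) (N₁ N₂ : S) (φ : N₁ ⟶ N₂)
    (d₁ : q.fls.obj (q.fst.obj (q.jls.obj (q.jst.obj N₁))) ⟶ N₁⟦(1 : ℤ)⟧)
    (d₂ : q.fls.obj (q.fst.obj (q.jls.obj (q.jst.obj N₂))) ⟶ N₂⟦(1 : ℤ)⟧)
    (h₁ : Triangle.mk (mvι q N₁) (mvκ q N₁) d₁ ∈ distTriang S)
    (h₂ : Triangle.mk (mvι q N₂) (mvκ q N₂) d₂ ∈ distTriang S) :
    d₁ ≫ (shiftFunctor S (1 : ℤ)).map φ = q.fls.map (q.fst.map (q.jls.map (q.jst.map φ))) ≫ d₂ := by
  have nJ : ∀ {X Y : S} (f : X ⟶ Y), f ≫ q.adjJ.unit.app Y = q.adjJ.unit.app X ≫ q.jls.map (q.jst.map f) :=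
    fun f => q.adjJ.unit.naturality f
  have nF : ∀ {X Y : S} (f : X ⟶ Y), f ≫ q.adjF.unit.app Y = q.adjF.unit.app X ≫ q.fls.map (q.fst.map f) :=
    fun f => q.adjF.unit.naturality f
  obtain ⟨a, ha₁', ha₂'⟩ := compl₁ h₁ h₂
    (biprod.map (q.jls.map (q.jst.map φ)) (q.fls.map (q.fst.map φ)))
    (q.fls.map (q.fst.map (q.jls.map (q.jst.map φ)))) (by
      apply biprod.hom_ext'
      · simp only [mvκ, biprod.inl_desc_assoc, biprod.inl_map_assoc, biprod.inl_desc]
        rw [nF]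
      · simp only [mvκ, biprod.inr_desc_assoc, biprod.inr_map_assoc, biprod.inr_desc,
          Preadditive.neg_comp, Preadditive.comp_neg, neg_inj]
        rw [← Functor.map_comp, ← Functor.map_comp, ← Functor.map_comp, ← Functor.map_comp, nJ])
  have h0 : (φ - a) ≫ mvι q N₂ = 0 := by
    rw [Preadditive.sub_comp, ← ha₁', sub_eq_zero]
    apply biprod.hom_ext
    · simp only [mvι, Category.assoc, biprod.lift_fst, biprod.map_fst, biprod.lift_fst_assoc]
      exact nJ φ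
    · simp only [mvι, Category.assoc, biprod.lift_snd, biprod.map_snd, biprod.lift_snd_assoc]
      exact nF φ
  obtain ⟨ψ, hψ⟩ := coy₁ h₂ ((shiftFunctor S (1 : ℤ)).map (φ - a)) (by
    rw [← Functor.map_comp, h0, Functor.map_zero])
  obtain ⟨ψ', hψ'⟩ := factor_shift q hq N₁ _ ψ
  have h3 : d₁ ≫ (shiftFunctor S (1 : ℤ)).map (q.adjJ.unit.app N₁) = 0 := by
    have h4 := tri_comp₃₁ h₁
    have h5 : q.adjJ.unit.app N₁ = mvι q N₁ ≫ biprod.fst := by simp [mvι]
    rw [h5, Functor.map_comp, reassoc_of% h4, zero_comp]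
  have h6 : d₁ ≫ (shiftFunctor S (1 : ℤ)).map (φ - a) = 0 := by
    rw [hψ, hψ', Category.assoc, reassoc_of% h3, zero_comp]
  rw [Functor.map_sub, Preadditive.comp_sub, sub_eq_zero] at h6
  rw [h6, ha₂']

/-- naturality of base change -/
theorem bcApp_naturality {M₁ M₂ : S'} (x : M₁ ⟶ M₂) :
    q.jst.map (q.fls.map x) ≫ q.bcApp M₂ = q.bcApp M₁ ≫ q.gls.map (q.jpst.map x) := by
  have h1 := q.adjG.unit.naturality (q.jst.map (q.fls.map x))
  have h2 := q.e.hom.naturality (q.fls.map x)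
  have h3 := q.adjF.counit.naturality x
  simp only [Functor.id_obj, Functor.id_map, Functor.comp_obj, Functor.comp_map] at h1 h2 h3
  simp only [bcApp, Category.assoc]
  rw [reassoc_of% h1, ← Functor.map_comp_assoc, h2, Functor.map_comp_assoc, ← Functor.map_comp,
    ← q.jpst.map_comp, h3, q.jpst.map_comp, q.gls.map_comp]

theorem isIso_jst_fls (hq : q.IsMV) {M₁ M₂ : S'} (x : M₁ ⟶ M₂) (hx : IsIso (q.jpst.map x)) :
    IsIso (q.jst.map (q.fls.map x)) := by
  have := hq.isIso_bcApp M₁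
  have := hq.isIso_bcApp M₂
  have h := bcApp_naturality q x
  have : IsIso (q.jst.map (q.fls.map x) ≫ q.bcApp M₂) := by rw [h]; infer_instance
  exact IsIso.of_isIso_comp_right _ (q.bcApp M₂)

theorem isIso_jpst_fst {N₁ N₂ : S} (x : N₁ ⟶ N₂) (hx : IsIso (q.jst.map x)) :
    IsIso (q.jpst.map (q.fst.map x)) := by
  have h := q.e.hom.naturality x
  simp only [Functor.comp_obj, Functor.comp_map] at h
  have : IsIso (q.e.hom.app N₁ ≫ q.jpst.map (q.fst.map x)) := by rw [← h]; infer_instance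
  exact IsIso.of_isIso_comp_left (q.e.hom.app N₁) _

/-- An object killed by `j^*` which is orthogonal to itself... cone criterion. -/
theorem isIso_of_orthogonal {P Q : S} (θ : P ⟶ Q) (h1 : IsIso (q.jst.map θ))
    (hP : ∀ K : S, IsZero (q.jst.obj K) → ∀ f : K ⟶ P, f = 0)
    (hQ : ∀ K : S, IsZero (q.jst.obj K) → ∀ f : K ⟶ Q, f = 0) : IsIso θ := by
  obtain ⟨Z, z, w, hT⟩ := distinguished_cocone_triangle θ
  have hT' := mapT q.jst hT
  have hZ : IsZero (q.jst.obj Z) := Triangle.isZero₃_of_isIso₁ _ hT' h1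
  have hw : w = 0 := by
    -- `w : Z ⟶ P⟦1⟧`
    obtain ⟨w', rfl⟩ := exists_unshift w
    rw [hP _ (isZero_map_shift q.jst Z hZ (-1)) w', Functor.map_zero, comp_zero]
  obtain ⟨y, hy⟩ := coy₃ hT (𝟙 Z) (by rw [hw, comp_zero])
  have hy0 : y = 0 := hQ Z hZ y
  have hZ0 : IsZero Z := by
    rw [IsZero.iff_id_eq_zero, hy, hy0, zero_comp]
  exact (Triangle.isZero₃_iff_isIso₁ _ hT).1 hZ0

theorem mv_exists (hq : q.IsMV) (N : S) :
    ∃ d, Triangle.mk (mvι q N) (mvκ q N) d ∈ distTriang S := by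
  obtain ⟨P, π, δ, hT⟩ := distinguished_cocone_triangle (mvι q N)
  obtain ⟨θ, hθ⟩ := yo₂ hT (mvκ q N) (mvι_κ q N)
  -- first part: `j^* θ` is an isomorphism
  have hunit : IsIso (q.jst.map (q.adjJ.unit.app N)) := isIso_jst_unit q hq N
  have h1 : IsIso (q.jst.map ((biprod.inr : _ ⟶ q.jls.obj (q.jst.obj N) ⊞ q.fls.obj (q.fst.obj N)) ≫ π)) := by
    rw [Functor.map_comp]
    apply isIso_compl₂ (mapT q.jst hT) (q.jst.map biprod.inl) (q.jst.map biprod.fst)
      (q.jst.map biprod.inr) (q.jst.map biprod.snd)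
    · rw [← Functor.map_comp, biprod.inr_snd, CategoryTheory.Functor.map_id]
    · rw [← Functor.map_comp, biprod.inr_fst, Functor.map_zero]
    · rw [← Functor.map_comp, ← Functor.map_comp, ← Functor.map_add, biprod.total, CategoryTheory.Functor.map_id]
    · rw [← Functor.map_comp]
      have : mvι q N ≫ biprod.fst = q.adjJ.unit.app N := by simp [mvι]
      rw [this]
      exact hunit
  have h2 : IsIso (q.jst.map ((biprod.inr : _ ⟶ q.jls.obj (q.jst.obj N) ⊞ q.fls.obj (q.fst.obj N)) ≫ mvκ q N)) := by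
    have : (biprod.inr : _ ⟶ q.jls.obj (q.jst.obj N) ⊞ q.fls.obj (q.fst.obj N)) ≫ mvκ q N =
        -(q.fls.map (q.fst.map (q.adjJ.unit.app N))) := by simp [mvκ]
    rw [this, Functor.map_neg]
    have := isIso_jst_fls q hq (q.fst.map (q.adjJ.unit.app N)) (isIso_jpst_fst q _ hunit)
    exact isIso_neg _
  have h3 : IsIso (q.jst.map θ) := by
    rw [hθ, ← Category.assoc, Functor.map_comp] at h2
    exact IsIso.of_isIso_comp_left (q.jst.map (biprod.inr ≫ π)) _
  have h4 : IsIso θ := by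
    apply isIso_of_orthogonal q θ h3
    · intro K hK x
      have hx1 : x ≫ δ = 0 := by
        have h5 : (x ≫ δ) ≫ (shiftFunctor S (1 : ℤ)).map (mvι q N) = 0 := by
          rw [Category.assoc, tri_comp₃₁ hT, comp_zero]
        obtain ⟨w', hw'⟩ := exists_unshift (x ≫ δ)
        rw [hw', Category.assoc, ← Functor.map_comp, Preadditive.IsIso.comp_left_eq_zero] at h5
        have h6 : w' ≫ mvι q N = 0 := by
          apply (shiftFunctor S (1 : ℤ)).map_injective
          rw [h5, Functor.map_zero]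
        have h7 : w' = 0 := by
          apply (comp_unit_bijective q hq _ (isZero_map_shift q.jst K hK (-1)) N).1
          have h9 : q.adjF.unit.app N = mvι q N ≫ biprod.snd := by simp [mvι]
          dsimp only
          rw [h9, reassoc_of% h6, zero_comp, zero_comp]
        rw [hw', h7, Functor.map_zero, comp_zero]
      obtain ⟨x', rfl⟩ := coy₃ hT x hx1
      have h10 : x' ≫ biprod.fst = 0 := hom_eq_zero_of_adj q.adjJ hK _
      obtain ⟨z, hz⟩ := (comp_unit_bijective q hq K hK N).2 (x' ≫ biprod.snd)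
      have h11 : x' = z ≫ mvι q N := by
        apply biprod.hom_ext
        · rw [h10, Category.assoc, biprod.lift_fst]
          exact (hom_eq_zero_of_adj q.adjJ hK _).symm
        · rw [← hz, Category.assoc, biprod.lift_snd]
      rw [h11, Category.assoc, tri_comp₁₂ hT, comp_zero]
    · intro K hK x
      exact hom_eq_zero_Q q hq K hK _ x
  refine ⟨inv θ ≫ δ, ?_⟩
  exact iso₃ hT θ hθ

end K885.MV
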