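import Groth.Agent.W4c3perfectstacks.K885.MV2
import Groth.Agent.CohtopB.TriCompact
import Mathlib.CategoryTheory.Adjunction.Additive

/-! Compactness from the pullbacks. -/

set_option autoImplicit false
set_option linter.unusedSectionVars false
universe v u

open CategoryTheory CategoryTheory.Limits CategoryTheory.Pretriangulated
open W4c3perfectstacks W4c3perfectstacks.MVSq
open Groth.Agent.CohtopB.TriCompact

namespace K885.MV

section general

variable {C D : Type u} [Category.{v} C] [Category.{v} D] [Preadditive C] [Preadditive D]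
  [HasCoproducts.{v} C] [HasCoproducts.{v} D]

/-- Maps from a compact object into a left adjoint applied to a coproduct are finite sums. -/
theorem exists_sum_left_adj {L : C ⥤ D} {G : D ⥤ C} (adj : L ⊣ G) {K : D}
    (hK : CohDer.IsCompactObject K) {ι : Type v} (X : ι → C) (f : K ⟶ L.obj (∐ X)) :
    ∃ (s : Finset ι) (g : ∀ i, K ⟶ L.obj (X i)), f = ∑ i ∈ s, g i ≫ L.map (Sigma.ι X i) := by
  have := adj.leftAdjoint_preservesColimits
  obtain ⟨s, g, hg⟩ := (isCompactObject_iff K).1 hK ι (fun i => L.obj (X i))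
    (f ≫ (PreservesCoproduct.iso L X).hom)
  refine ⟨s, g, ?_⟩
  have h1 : f = (f ≫ (PreservesCoproduct.iso L X).hom) ≫ (PreservesCoproduct.iso L X).inv := by
    rw [Category.assoc, Iso.hom_inv_id, Category.comp_id]
  rw [h1, hg, Preadditive.sum_comp]
  refine Finset.sum_congr rfl fun i _ => ?_
  rw [Category.assoc]
  congr 1
  simp [PreservesCoproduct.inv_hom]

theorem exists_sum_extend {K : D} {ι : Type v} {Y : ι → D} {T : D} {j : ∀ i, Y i ⟶ T} {f : K ⟶ T}
    (h : ∃ (s : Finset ι) (g : ∀ i, K ⟶ Y i), f = ∑ i ∈ s, g i ≫ j i) :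
    ∃ (s : Finset ι), ∀ t : Finset ι, s ⊆ t → ∃ (g : ∀ i, K ⟶ Y i), f = ∑ i ∈ t, g i ≫ j i := by
  classical
  obtain ⟨s, g, hg⟩ := h
  refine ⟨s, fun t hst => ⟨fun i => if i ∈ s then g i else 0, ?_⟩⟩
  rw [hg]
  have h2 : ∑ i ∈ t, (if i ∈ s then g i else 0) ≫ j i = ∑ i ∈ s, (if i ∈ s then g i else 0) ≫ j i := by
    symm
    apply Finset.sum_subset hst
    intro i _ hi
    rw [if_neg hi, zero_comp]
  rw [h2]
  exact Finset.sum_congr rfl fun i hi => by rw [if_pos hi]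

/-- composition of adjoint transposes is additive. -/
theorem homEquiv_sum {L : C ⥤ D} {G : D ⥤ C} (adj : L ⊣ G) [G.Additive] {K : C} {T : D} {ι : Type v}
    (s : Finset ι) (f : ι → (L.obj K ⟶ T)) :
    adj.homEquiv K T (∑ i ∈ s, f i) = ∑ i ∈ s, adj.homEquiv K T (f i) := by
  simp only [Adjunction.homEquiv_unit, Functor.map_sum, Preadditive.comp_sum]

end general

variable {S S' R R' : Type u} [Category.{v} S] [Category.{v} S'] [Category.{v} R] [Category.{v} R']
    [Preadditive S] [Preadditive S'] [Preadditive R] [Preadditive R']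
    [HasZeroObject S] [HasZeroObject S'] [HasZeroObject R] [HasZeroObject R']
    [HasShift S ℤ] [HasShift S' ℤ] [HasShift R ℤ] [HasShift R' ℤ]
    [∀ n : ℤ, (shiftFunctor S n).Additive] [∀ n : ℤ, (shiftFunctor S' n).Additive]
    [∀ n : ℤ, (shiftFunctor R n).Additive] [∀ n : ℤ, (shiftFunctor R' n).Additive]
    [Pretriangulated S] [Pretriangulated S'] [Pretriangulated R] [Pretriangulated R']
    [HasCoproducts.{v} S] [HasCoproducts.{v} S'] [HasCoproducts.{v} R] [HasCoproducts.{v} R']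

variable (q : W4c3perfectstacks.MVSq S S' R R')
    [q.jst.CommShift ℤ] [q.fst.CommShift ℤ] [q.jpst.CommShift ℤ] [q.gst.CommShift ℤ]
    [q.jst.IsTriangulated] [q.fst.IsTriangulated] [q.jpst.IsTriangulated] [q.gst.IsTriangulated]

/-- naturality of the exchange map -/
theorem bc2App_naturality {P₁ P₂ : R} (x : P₁ ⟶ P₂) :
    q.fst.map (q.jls.map x) ≫ q.bc2App P₂ = q.bc2App P₁ ≫ q.jpls.map (q.gst.map x) := by
  have h1 := q.adjJp.unit.naturality (q.fst.map (q.jls.map x))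
  have h2 := q.e.inv.naturality (q.jls.map x)
  have h3 := q.adjJ.counit.naturality x
  simp only [Functor.id_obj, Functor.id_map, Functor.comp_obj, Functor.comp_map] at h1 h2 h3
  simp only [bc2App, Category.assoc]
  rw [reassoc_of% h1, ← Functor.map_comp_assoc, h2, Functor.map_comp_assoc, ← Functor.map_comp,
    ← q.gst.map_comp, h3, q.gst.map_comp, q.jpls.map_comp]

/-- Maps `W ⟶ Q(Y)` against maps `g^* j^* W ⟶ g^* j^* Y`. -/
noncomputable def QEquiv (hq : q.IsMV) (W Y : S) :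
    (W ⟶ q.fls.obj (q.fst.obj (q.jls.obj (q.jst.obj Y)))) ≃
      (q.jpst.obj (q.fst.obj W) ⟶ q.gst.obj (q.jst.obj Y)) :=
  have := hq.isIso_bc2App (q.jst.obj Y)
  ((q.adjF.homEquiv W _).symm.trans (asIso (q.bc2App (q.jst.obj Y))).homToEquiv).trans
    (q.adjJp.homEquiv _ _).symm

theorem QEquiv_apply (hq : q.IsMV) (W Y : S)
    (f : W ⟶ q.fls.obj (q.fst.obj (q.jls.obj (q.jst.obj Y)))) :
    QEquiv q hq W Y f = (q.adjJp.homEquiv _ _).symm
      ((q.adjF.homEquiv W _).symm f ≫ q.bc2App (q.jst.obj Y)) := rfl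

theorem QEquiv_naturality (hq : q.IsMV) (W : S) {Y₁ Y₂ : S} (y : Y₁ ⟶ Y₂)
    (f : W ⟶ q.fls.obj (q.fst.obj (q.jls.obj (q.jst.obj Y₁)))) :
    QEquiv q hq W Y₂ (f ≫ q.fls.map (q.fst.map (q.jls.map (q.jst.map y)))) =
      QEquiv q hq W Y₁ f ≫ q.gst.map (q.jst.map y) := by
  rw [QEquiv_apply, QEquiv_apply, ← q.adjJp.homEquiv_naturality_right_symm,
    q.adjF.homEquiv_naturality_right_symm, Category.assoc, bc2App_naturality, Category.assoc]

theorem QEquiv_sum (hq : q.IsMV) (W Y : S) {ι : Type v} (s : Finset ι)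
    (f : ι → (W ⟶ q.fls.obj (q.fst.obj (q.jls.obj (q.jst.obj Y))))) :
    QEquiv q hq W Y (∑ i ∈ s, f i) = ∑ i ∈ s, QEquiv q hq W Y (f i) := by
  simp only [QEquiv_apply, Adjunction.homEquiv_counit, Functor.map_sum, Preadditive.sum_comp]

theorem isCompactObject_of_iso' {K K' : R'} (e : K ≅ K') (h : CohDer.IsCompactObject K) :
    CohDer.IsCompactObject K' :=
  (compactProp R').prop_of_iso e h

theorem isCompact (hq : q.IsMV) (N : S) (hU : CohDer.IsCompactObject (q.jst.obj N))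
    (hX' : CohDer.IsCompactObject (q.fst.obj N))
    (hU' : CohDer.IsCompactObject (q.gst.obj (q.jst.obj N))) : CohDer.IsCompactObject N := by
  classical
  have : q.jls.Additive := q.adjJ.right_adjoint_additive
  have : q.fls.Additive := q.adjF.right_adjoint_additive
  have nJ : ∀ {X Y : S} (f : X ⟶ Y), f ≫ q.adjJ.unit.app Y = q.adjJ.unit.app X ≫ q.jls.map (q.jst.map f) :=
    fun f => q.adjJ.unit.naturality f
  have nF : ∀ {X Y : S} (f : X ⟶ Y), f ≫ q.adjF.unit.app Y = q.adjF.unit.app X ≫ q.fls.map (q.fst.map f) :=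
    fun f => q.adjF.unit.naturality f
  rw [isCompactObject_iff]
  intro ι X f
  choose d hd using fun Y : S => mv_exists q hq Y
  -- maps to `Q`
  have hQ : ∀ (ψ : N⟦(1 : ℤ)⟧ ⟶ q.fls.obj (q.fst.obj (q.jls.obj (q.jst.obj (∐ X))))),
      ∃ (s : Finset ι) (g : ∀ i, N⟦(1 : ℤ)⟧ ⟶ q.fls.obj (q.fst.obj (q.jls.obj (q.jst.obj (X i))))),
        ψ = ∑ i ∈ s, g i ≫ q.fls.map (q.fst.map (q.jls.map (q.jst.map (Sigma.ι X i)))) := by
    intro ψ
    have hK : CohDer.IsCompactObject (q.jpst.obj (q.fst.obj (N⟦(1 : ℤ)⟧))) := by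
      refine isCompactObject_of_iso' ?_ (isCompactObject_shift hU' 1)
      exact ((q.gst.commShiftIso (1 : ℤ)).symm.app _) ≪≫
        q.gst.mapIso ((q.jst.commShiftIso (1 : ℤ)).symm.app _) ≪≫ q.e.app _
    obtain ⟨s, g, hg⟩ := exists_sum_left_adj (q.adjJ.comp q.adjG) hK X (QEquiv q hq _ _ ψ)
    refine ⟨s, fun i => (QEquiv q hq _ _).symm (g i), ?_⟩
    apply (QEquiv q hq _ _).injective
    rw [QEquiv_sum, hg]
    refine Finset.sum_congr rfl fun i _ => ?_
    rw [QEquiv_naturality, Equiv.apply_symm_apply]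
    rfl
  -- components
  obtain ⟨s₁, hs₁⟩ := exists_sum_extend (exists_sum_left_adj q.adjJ hU X (q.jst.map f))
  obtain ⟨s₂, hs₂⟩ := exists_sum_extend (exists_sum_left_adj q.adjF hX' X (q.fst.map f))
  obtain ⟨a, ha⟩ := hs₁ (s₁ ∪ s₂) Finset.subset_union_left
  obtain ⟨b, hb⟩ := hs₂ (s₁ ∪ s₂) Finset.subset_union_right
  set s := s₁ ∪ s₂ with hs
  let w : ∀ i, N ⟶ q.jls.obj (q.jst.obj (X i)) ⊞ q.fls.obj (q.fst.obj (X i)) := fun i =>
    biprod.lift (q.adjJ.homEquiv _ _ (a i)) (q.adjF.homEquiv _ _ (b i))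
  let AB : ∀ {Y₁ Y₂ : S} (y : Y₁ ⟶ Y₂), q.jls.obj (q.jst.obj Y₁) ⊞ q.fls.obj (q.fst.obj Y₁) ⟶
      q.jls.obj (q.jst.obj Y₂) ⊞ q.fls.obj (q.fst.obj Y₂) := fun y =>
    biprod.map (q.jls.map (q.jst.map y)) (q.fls.map (q.fst.map y))
  have nι : ∀ {Y₁ Y₂ : S} (y : Y₁ ⟶ Y₂), mvι q Y₁ ≫ AB y = y ≫ mvι q Y₂ := by
    intro Y₁ Y₂ y
    apply biprod.hom_ext
    · simp only [AB, mvι, Category.assoc, biprod.lift_fst, biprod.map_fst, biprod.lift_fst_assoc]
      exact (nJ y).symm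
    · simp only [AB, mvι, Category.assoc, biprod.lift_snd, biprod.map_snd, biprod.lift_snd_assoc]
      exact (nF y).symm
  have nκ : ∀ {Y₁ Y₂ : S} (y : Y₁ ⟶ Y₂), AB y ≫ mvκ q Y₂ =
      mvκ q Y₁ ≫ q.fls.map (q.fst.map (q.jls.map (q.jst.map y))) := by
    intro Y₁ Y₂ y
    apply biprod.hom_ext'
    · simp only [AB, mvκ, biprod.inl_desc_assoc, biprod.inl_map_assoc, biprod.inl_desc]
      rw [nF]
    · simp only [AB, mvκ, biprod.inr_desc_assoc, biprod.inr_map_assoc, biprod.inr_desc,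
        Preadditive.neg_comp, Preadditive.comp_neg, neg_inj]
      rw [← Functor.map_comp, ← Functor.map_comp, ← Functor.map_comp, ← Functor.map_comp, nJ]
  have hw : f ≫ mvι q (∐ X) = ∑ i ∈ s, w i ≫ AB (Sigma.ι X i) := by
    apply biprod.hom_ext
    · simp only [mvι, Category.assoc, biprod.lift_fst, Preadditive.sum_comp, w, AB, biprod.map_fst,
        biprod.lift_fst_assoc]
      have e1 : f ≫ q.adjJ.unit.app (∐ X) = q.adjJ.homEquiv _ _ (q.jst.map f) := by
        rw [Adjunction.homEquiv_unit]; exact nJ f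
      rw [e1, ha, homEquiv_sum]
      exact Finset.sum_congr rfl fun i _ => Adjunction.homEquiv_naturality_right _ _ _
    · simp only [mvι, Category.assoc, biprod.lift_snd, Preadditive.sum_comp, w, AB, biprod.map_snd,
        biprod.lift_snd_assoc]
      have e1 : f ≫ q.adjF.unit.app (∐ X) = q.adjF.homEquiv _ _ (q.fst.map f) := by
        rw [Adjunction.homEquiv_unit]; exact nF f
      rw [e1, hb, homEquiv_sum]
      exact Finset.sum_congr rfl fun i _ => Adjunction.homEquiv_naturality_right _ _ _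
  -- lift the components
  have hwκ : ∀ i ∈ s, w i ≫ mvκ q (X i) = 0 := by
    intro i hi
    have h1 : ∑ j ∈ s, (w j ≫ mvκ q (X j)) ≫
        q.fls.map (q.fst.map (q.jls.map (q.jst.map (Sigma.ι X j)))) = 0 := by
      have h2 : (f ≫ mvι q (∐ X)) ≫ mvκ q (∐ X) = 0 := by rw [Category.assoc, mvι_κ, comp_zero]
      rw [hw, Preadditive.sum_comp] at h2
      rw [← h2]
      refine Finset.sum_congr rfl fun j _ => ?_
      rw [Category.assoc, Category.assoc, nκ]
    have h3 := congrArg (fun x => x ≫ q.fls.map (q.fst.map (q.jls.map (q.jst.map (Sigma.π X i))))) h1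
    simp only [Preadditive.sum_comp, Category.assoc, zero_comp, ← Functor.map_comp] at h3
    rw [Finset.sum_eq_single i] at h3
    · simpa using h3
    · intro j _ hj
      rw [Sigma.ι_π_of_ne X hj, Functor.map_zero, Functor.map_zero, Functor.map_zero,
        Functor.map_zero, comp_zero, comp_zero]
    · intro h; exact absurd hi h
  have hx : ∀ i, ∃ x : N ⟶ X i, i ∈ s → w i = x ≫ mvι q (X i) := by
    intro i
    by_cases hi : i ∈ s
    · obtain ⟨x, hx⟩ := coy₂ (hd (X i)) (w i) (hwκ i hi)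
      exact ⟨x, fun _ => hx⟩
    · exact ⟨0, fun h => absurd h hi⟩
  choose x hx using hx
  have hf' : (f - ∑ i ∈ s, x i ≫ Sigma.ι X i) ≫ mvι q (∐ X) = 0 := by
    rw [Preadditive.sub_comp, hw, Preadditive.sum_comp, sub_eq_zero]
    refine Finset.sum_congr rfl fun i hi => ?_
    rw [hx i hi, Category.assoc, nι, Category.assoc]
  obtain ⟨ψ, hψ⟩ := coy₁ (hd (∐ X)) ((shiftFunctor S (1 : ℤ)).map (f - ∑ i ∈ s, x i ≫ Sigma.ι X i)) (by
    rw [← Functor.map_comp, hf', Functor.map_zero])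
  obtain ⟨t, g, hg⟩ := hQ ψ
  choose x' hx' using fun i => (shiftFunctor S (1 : ℤ)).map_surjective (g i ≫ d (X i))
  have h5 : f - ∑ i ∈ s, x i ≫ Sigma.ι X i = ∑ i ∈ t, x' i ≫ Sigma.ι X i := by
    apply (shiftFunctor S (1 : ℤ)).map_injective
    rw [hψ, hg, Preadditive.sum_comp, Functor.map_sum]
    refine Finset.sum_congr rfl fun i _ => ?_
    rw [Category.assoc, ← mv_naturality q hq _ _ (Sigma.ι X i) _ _ (hd _) (hd _), Functor.map_comp,
      hx', Category.assoc]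
  have h6 : f = ∑ i ∈ s, x i ≫ Sigma.ι X i + ∑ i ∈ t, x' i ≫ Sigma.ι X i := by
    rw [← h5]; abel
  obtain ⟨s₃, hs₃⟩ := exists_sum_extend (f := ∑ i ∈ s, x i ≫ Sigma.ι X i) ⟨s, x, rfl⟩
  obtain ⟨s₄, hs₄⟩ := exists_sum_extend (f := ∑ i ∈ t, x' i ≫ Sigma.ι X i) ⟨t, x', rfl⟩
  obtain ⟨y, hy⟩ := hs₃ (s₃ ∪ s₄) Finset.subset_union_left
  obtain ⟨z, hz⟩ := hs₄ (s₃ ∪ s₄) Finset.subset_union_right
  refine ⟨s₃ ∪ s₄, fun i => y i + z i, ?_⟩
  rw [h6, hy, hz, ← Finset.sum_add_distrib]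
  exact Finset.sum_congr rfl fun i _ => (Preadditive.add_comp _ _ _ _ _ _).symm

end K885.MV
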