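import Mathlib.CategoryTheory.Triangulated.Functor
import Mathlib.CategoryTheory.Preadditive.Biproducts
import Mathlib.Tactic
import Groth.Prelude.Def_W4c3perfectstacksMV

/-! Mayer–Vietoris squares of triangulated categories: orthogonality and the triangle. -/

set_option autoImplicit false
set_option linter.unusedSectionVars false
universe v u

open CategoryTheory CategoryTheory.Limits CategoryTheory.Pretriangulated
open W4c3perfectstacks W4c3perfectstacks.MVSq

namespace K885.MV

section general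

variable {C D : Type u} [Category.{v} C] [Category.{v} D] [HasZeroMorphisms C] [HasZeroMorphisms D]

/-- Maps into a value of the right adjoint vanish when the left adjoint kills the source. -/
theorem hom_eq_zero_of_adj {L : C ⥤ D} {G : D ⥤ C} (adj : L ⊣ G) {K : C} {P : D}
    (hK : IsZero (L.obj K)) (f : K ⟶ G.obj P) : f = 0 := by
  apply (adj.homEquiv K P).symm.injective
  exact hK.eq_of_src _ _

/-- The map on morphisms is bijective when the unit at the target is invertible. -/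
theorem map_bijective_of_isIso_unit {L : C ⥤ D} {G : D ⥤ C} (adj : L ⊣ G) (K N : C)
    (hN : IsIso (adj.unit.app N)) : Function.Bijective (fun f : K ⟶ N => L.map f) := by
  constructor
  · intro f g h
    rw [← cancel_mono (adj.unit.app N)]
    have h1 := adj.unit.naturality f
    have h2 := adj.unit.naturality g
    simp only [Functor.id_obj, Functor.id_map, Functor.comp_obj, Functor.comp_map] at h1 h2 h
    rw [h1, h2, h]
  · intro g
    refine ⟨(adj.unit.app K ≫ G.map g) ≫ inv (adj.unit.app N), ?_⟩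
    apply (adj.homEquiv K (L.obj N)).injective
    rw [adj.homEquiv_unit, adj.homEquiv_unit]
    have h1 := adj.unit.naturality ((adj.unit.app K ≫ G.map g) ≫ inv (adj.unit.app N))
    simp only [Functor.id_obj, Functor.id_map, Functor.comp_obj, Functor.comp_map] at h1
    rw [← h1, Category.assoc, IsIso.inv_hom_id, Category.comp_id]

end general

variable {S S' R R' : Type u} [Category.{v} S] [Category.{v} S'] [Category.{v} R] [Category.{v} R']
    [Preadditive S] [Preadditive S'] [Preadditive R] [Preadditive R']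
    [HasZeroObject S] [HasZeroObject S'] [HasZeroObject R] [HasZeroObject R']
    [HasShift S ℤ] [HasShift S' ℤ] [HasShift R ℤ] [HasShift R' ℤ]
    [∀ n : ℤ, (shiftFunctor S n).Additive] [∀ n : ℤ, (shiftFunctor S' n).Additive]
    [∀ n : ℤ, (shiftFunctor R n).Additive] [∀ n : ℤ, (shiftFunctor R' n).Additive]
    [Pretriangulated S] [Pretriangulated S'] [Pretriangulated R] [Pretriangulated R']

section tri

variable {X Y Z : S} {f : X ⟶ Y} {g : Y ⟶ Z} {h : Z ⟶ X⟦(1 : ℤ)⟧}

theorem tri_comp₁₂ (hT : Triangle.mk f g h ∈ distTriang S) : f ≫ g = 0 :=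
  comp_distTriang_mor_zero₁₂ _ hT

theorem tri_comp₂₃ (hT : Triangle.mk f g h ∈ distTriang S) : g ≫ h = 0 :=
  comp_distTriang_mor_zero₂₃ _ hT

theorem tri_comp₃₁ (hT : Triangle.mk f g h ∈ distTriang S) :
    h ≫ (shiftFunctor S (1 : ℤ)).map f = 0 :=
  comp_distTriang_mor_zero₃₁ _ hT

theorem coy₂ (hT : Triangle.mk f g h ∈ distTriang S) {W : S} (x : W ⟶ Y) (hx : x ≫ g = 0) :
    ∃ y : W ⟶ X, x = y ≫ f :=
  Triangle.coyoneda_exact₂ _ hT x hx

theorem coy₃ (hT : Triangle.mk f g h ∈ distTriang S) {W : S} (x : W ⟶ Z) (hx : x ≫ h = 0) :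
    ∃ y : W ⟶ Y, x = y ≫ g :=
  Triangle.coyoneda_exact₃ _ hT x hx

theorem coy₁ (hT : Triangle.mk f g h ∈ distTriang S) {W : S} (x : W ⟶ X⟦(1 : ℤ)⟧)
    (hx : x ≫ (shiftFunctor S (1 : ℤ)).map f = 0) :
    ∃ y : W ⟶ Z, x = y ≫ h :=
  Triangle.coyoneda_exact₁ _ hT x hx

theorem yo₂ (hT : Triangle.mk f g h ∈ distTriang S) {W : S} (x : Y ⟶ W) (hx : f ≫ x = 0) :
    ∃ y : Z ⟶ W, x = g ≫ y :=
  Triangle.yoneda_exact₂ _ hT x hx

theorem yo₃ (hT : Triangle.mk f g h ∈ distTriang S) {W : S} (x : Z ⟶ W) (hx : g ≫ x = 0) :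
    ∃ y : X⟦(1 : ℤ)⟧ ⟶ W, x = h ≫ y :=
  Triangle.yoneda_exact₃ _ hT x hx

theorem mapT (F : S ⥤ S') [F.CommShift ℤ] [F.IsTriangulated]
    (hT : Triangle.mk f g h ∈ distTriang S) :
    Triangle.mk (F.map f) (F.map g) (F.map h ≫ (F.commShiftIso (1 : ℤ)).hom.app X) ∈ distTriang S' :=
  F.map_distinguished _ hT

end tri

section shift

theorem isZero_map_shift (L : S ⥤ S') [L.CommShift ℤ] (K : S) (hK : IsZero (L.obj K)) (n : ℤ) :
    IsZero (L.obj (K⟦n⟧)) :=
  ((shiftFunctor S' n).map_isZero hK).of_iso ((L.commShiftIso n).app K)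

end shift

variable (q : W4c3perfectstacks.MVSq S S' R R')
    [q.jst.CommShift ℤ] [q.fst.CommShift ℤ] [q.jpst.CommShift ℤ] [q.gst.CommShift ℤ]
    [q.jst.IsTriangulated] [q.fst.IsTriangulated] [q.jpst.IsTriangulated] [q.gst.IsTriangulated]

omit [HasZeroObject S] [HasZeroObject S'] [HasZeroObject R] [HasZeroObject R']
    [HasShift S ℤ] [HasShift S' ℤ] [HasShift R ℤ] [HasShift R' ℤ]
    [∀ n : ℤ, (shiftFunctor S n).Additive] [∀ n : ℤ, (shiftFunctor S' n).Additive]
    [∀ n : ℤ, (shiftFunctor R n).Additive] [∀ n : ℤ, (shiftFunctor R' n).Additive]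
    [Pretriangulated S] [Pretriangulated S'] [Pretriangulated R] [Pretriangulated R']
    [q.jst.CommShift ℤ] [q.fst.CommShift ℤ] [q.jpst.CommShift ℤ] [q.gst.CommShift ℤ]
    [q.jst.IsTriangulated] [q.fst.IsTriangulated] [q.jpst.IsTriangulated] [q.gst.IsTriangulated] in
theorem isZero_jpst_fst [q.gst.PreservesZeroMorphisms] (K : S) (hK : IsZero (q.jst.obj K)) :
    IsZero (q.jpst.obj (q.fst.obj K)) :=
  (q.gst.map_isZero hK).of_iso (q.e.app K).symm

theorem isIso_jst_unit (hq : q.IsMV) (N : S) : IsIso (q.jst.map (q.adjJ.unit.app N)) := by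
  have := hq.isIso_counitJ
  have h := q.adjJ.left_triangle_components N
  have h2 : IsIso (q.jst.map (q.adjJ.unit.app N) ≫ q.adjJ.counit.app (q.jst.obj N)) := by
    rw [h]; exact IsIso.id _
  exact IsIso.of_isIso_comp_right _ (q.adjJ.counit.app (q.jst.obj N))

theorem isIso_jpst_unit (hq : q.IsMV) (N : S') : IsIso (q.jpst.map (q.adjJp.unit.app N)) := by
  have := hq.isIso_counitJp
  have h := q.adjJp.left_triangle_components N
  have h2 : IsIso (q.jpst.map (q.adjJp.unit.app N) ≫ q.adjJp.counit.app (q.jpst.obj N)) := by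
    rw [h]; exact IsIso.id _
  exact IsIso.of_isIso_comp_right _ (q.adjJp.counit.app (q.jpst.obj N))

/-- Orthogonality: no maps from an object killed by `j^*` to `f_* f^* j_* P`. -/
theorem hom_eq_zero_Q (hq : q.IsMV) (K : S) (hK : IsZero (q.jst.obj K)) (P : R)
    (f : K ⟶ q.fls.obj (q.fst.obj (q.jls.obj P))) : f = 0 := by
  have := hq.isIso_bc2App P
  rw [← cancel_mono (q.fls.map (q.bc2App P)), zero_comp]
  apply (q.adjF.homEquiv K _).symm.injective
  rw [hom_eq_zero_of_adj q.adjJp (isZero_jpst_fst q K hK)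
    ((q.adjF.homEquiv K _).symm (f ≫ q.fls.map (q.bc2App P)))]
  exact (hom_eq_zero_of_adj q.adjJp (isZero_jpst_fst q K hK) _).symm

/-- Orthogonality: no maps from `f^* K` to `f^* j_* P`, when `j^* K = 0`. -/
theorem hom_eq_zero_Q' (hq : q.IsMV) (K : S) (hK : IsZero (q.jst.obj K)) (P : R)
    (f : q.fst.obj K ⟶ q.fst.obj (q.jls.obj P)) : f = 0 := by
  have := hq.isIso_bc2App P
  rw [← cancel_mono (q.bc2App P), zero_comp]
  exact hom_eq_zero_of_adj q.adjJp (isZero_jpst_fst q K hK) _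

/-- the fibre of the unit of `j` -/
theorem exists_fibre (hq : q.IsMV) (N : S) : ∃ (C : S) (c : C ⟶ N)
    (d : q.jls.obj (q.jst.obj N) ⟶ C⟦(1 : ℤ)⟧),
    Triangle.mk c (q.adjJ.unit.app N) d ∈ distTriang S ∧ IsZero (q.jst.obj C) := by
  obtain ⟨C, c, d, hT⟩ := distinguished_cocone_triangle₁ (q.adjJ.unit.app N)
  refine ⟨C, c, d, hT, ?_⟩
  have h1 := mapT q.jst hT
  exact Triangle.isZero₁_of_isIso₂ _ h1 (isIso_jst_unit q hq N)

/-- Any map from `f^* K` to `(f^* j_* P)⟦n⟧`... in the form used for exactness. -/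
theorem shift_hom_eq_zero (hq : q.IsMV) (K : S) (hK : IsZero (q.jst.obj K)) (P : R)
    (f : (q.fst.obj K)⟦(1 : ℤ)⟧ ⟶ q.fst.obj (q.jls.obj P)) : f = 0 := by
  rw [← cancel_epi ((q.fst.commShiftIso (1 : ℤ)).hom.app K), comp_zero]
  exact hom_eq_zero_Q' q hq (K⟦(1 : ℤ)⟧) (isZero_map_shift q.jst K hK 1) P _

/-- `f^*` is bijective on maps out of an object killed by `j^*`. -/
theorem map_bijective (hq : q.IsMV) (K : S) (hK : IsZero (q.jst.obj K)) (N : S) :
    Function.Bijective (fun g : K ⟶ N => q.fst.map g) := by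
  obtain ⟨C, c, d, hT, hC⟩ := exists_fibre q hq N
  have hT' := mapT q.fst hT
  have hb := map_bijective_of_isIso_unit q.adjF K C (hq.isIso_unitF C hC)
  constructor
  · suffices H : ∀ f : K ⟶ N, q.fst.map f = 0 → f = 0 by
      intro f g hfg
      rw [← sub_eq_zero]
      apply H
      rw [q.fst.map_sub, sub_eq_zero]
      exact hfg
    intro f hf'
    obtain ⟨f', rfl⟩ := coy₂ hT f
      (hom_eq_zero_of_adj q.adjJ hK (f ≫ q.adjJ.unit.app N))
    rw [q.fst.map_comp] at hf'
    have h1 : (shiftFunctor S' (1 : ℤ)).map (q.fst.map f') ≫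
        (shiftFunctor S' (1 : ℤ)).map (q.fst.map c) = 0 := by
      rw [← Functor.map_comp, hf', Functor.map_zero]
    obtain ⟨g, hg⟩ := coy₁ hT' _ h1
    have hg0 : g = 0 := shift_hom_eq_zero q hq K hK _ g
    rw [hg0, zero_comp] at hg
    have h2 : q.fst.map f' = 0 := by
      apply (shiftFunctor S' (1 : ℤ)).map_injective
      rw [hg, Functor.map_zero]
    have h3 : f' = 0 := by
      apply hb.1
      simp only [h2, Functor.map_zero]
    rw [h3, zero_comp]
  · intro g
    obtain ⟨g', hg'⟩ := coy₂ hT' g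
      (hom_eq_zero_Q' q hq K hK _ _)
    obtain ⟨f', rfl⟩ := hb.2 g'
    refine ⟨f' ≫ c, ?_⟩
    dsimp only
    rw [hg', q.fst.map_comp]

/-- In unit form: composition with the unit of `f` is bijective on maps out of an object killed by `j^*`. -/
theorem comp_unit_bijective (hq : q.IsMV) (K : S) (hK : IsZero (q.jst.obj K)) (N : S) :
    Function.Bijective (fun g : K ⟶ N => g ≫ q.adjF.unit.app N) := by
  have h := map_bijective q hq K hK N
  have : (fun g : K ⟶ N => g ≫ q.adjF.unit.app N) =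
      (q.adjF.homEquiv K (q.fst.obj N)) ∘ (fun g : K ⟶ N => q.fst.map g) := by
    funext g
    simp [Adjunction.homEquiv_unit]
  rw [this]
  exact (Equiv.bijective _).comp h

theorem isZero_jst_fls (hq : q.IsMV) (M : S') (hM : IsZero (q.jpst.obj M)) :
    IsZero (q.jst.obj (q.fls.obj M)) := by
  have := hq.isIso_bcApp M
  refine IsZero.of_iso ?_ (asIso (q.bcApp M))
  have := q.adjG.rightAdjoint_preservesLimits
  exact (q.gls.map_isZero hM)

end K885.MV
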